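import Cfsg.Agent.H658.KKL.FongTwo
import Cfsg.Agent.H613.KS.Props

/-!
# S4577: piece B4 (helper658): Fong's second reduction, defect groups of order 16
-/

set_option autoImplicit false
set_option linter.style.haveILetI false

open Cfsg
open scoped ComplexConjugate

namespace Cfsg.Agent.H658.KS

open Cfsg.Agent Cfsg.Agent.Characters.Core Cfsg.Agent.H613.KS Cfsg.Agent.H658.KKL Cfsg.Agent.H658.KKL.FongTwo
open Cfsg.Agent.H613.KKL (Inv Cov)

universe u

/-- **B4** (S4577): the reduction at a normal subgroup `N` carrying an invariant character of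
2-defect zero covered by the block, `D ∩ N = 1`. -/
theorem B4 {G : Type u} [Group G] [Finite G] {M : Ideal AlgInt} (hM : IsPModular 2 M) {B : Set (IrrCharacter G)}
    (hB : IsPBlock M B) {D : Subgroup G} (hD : IsDefectGroup 2 M B D) (h8 : E16 D)
    (N : Subgroup G) [hN : N.Normal] (ξ : IrrCharacter ↥N) (hξ : Inv N ξ)
    (h0 : (charDegree (ξ : ↥N → ℂ)).factorization 2 = (Nat.card ↥N).factorization 2) (hcov : Cov N {ξ} B)
    (hDN : D ⊓ N = ⊥) :
    ∃ (H : Type u) (_ : Group H) (_ : Finite H) (Z : Subgroup H) (_ : Z.Normal), Z ≤ Subgroup.center H ∧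
        Nonempty (H ⧸ Z ≃* G ⧸ N) ∧ (HZ H → ∀ χ ∈ B, blockHeight 2 B (χ : G → ℂ) = 0) := by
  classical
  haveI : Fact (Nat.Prime 2) := ⟨Nat.prime_two⟩
  letI := Fintype.ofFinite ↥N
  obtain ⟨E, i1, i2, ⟨C⟩⟩ := Cfsg.Agent.H289.KKL.B4cover N ξ hξ h0
  have hθ : IsIrrCharacter N (ξ : N → ℂ) := ξ.2
  have hinv : ∀ (g : G) (n : N), (ξ : N → ℂ) ⟨g * n * g⁻¹, hN.conj_mem n n.2 g⟩ = (ξ : N → ℂ) n :=
    fun g n => hξ g n _ rfl
  have hψ : C.ψ 1 = (charDegree (ξ : N → ℂ) : ℂ) := by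
    rw [← theta_one C]
    exact Blocks.Basic.irr_one_eq_charDegree ξ.2
  have hdeg : charDegree C.ψ = charDegree (ξ : N → ℂ) := by
    have h1 := Blocks.Basic.irr_one_eq_charDegree C.irr
    rw [hψ] at h1
    exact_mod_cast h1.symm
  have h0' : (charDegree C.ψ).factorization 2 = (Nat.card C.s.range).factorization 2 := by
    rw [hdeg, card_range C, h0]
  have h0'' : MemLocalRing M (C.ψ 1 / (Nat.card C.s.range : ℂ)) := by
    rw [Blocks.Basic.irr_one_eq_charDegree C.irr]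
    exact Blocks.DefectCard.memLocalRing_natDiv hM Nat.card_pos.ne' h0'.ge
  obtain ⟨χ₀, hχ₀, θ, hθ', hne⟩ := hcov
  rw [Set.mem_singleton_iff] at hθ'
  subst hθ'
  obtain ⟨hBs, hX⟩ := star_block C hM hθ hinv h0'' hB ⟨χ₀, hχ₀, hne⟩
  obtain ⟨R, hR1, hR2, hR3, hR4⟩ := exists_defect C hM hθ h0'' h0' hX hBs ⟨χ₀, hχ₀⟩ hD hDN
  have hZ := Z_normal C
  refine ⟨E ⧸ C.s.range, inferInstance, inferInstance, C.Z, hZ, C.Z_le_center, quotient_iso C, ?_⟩
  intro hHZ
  refine height_of_star C hθ hX (hHZ M hM (C.star B) hBs _ hR3 ⟨hR4.trans h8.card, ?_⟩)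
  rintro _ ⟨r, hr, rfl⟩
  have h1 : r * r = 1 := by
    refine hR2 _ (mul_mem hr hr) ?_
    rw [map_mul]
    exact h8.inv _ (hR1 ▸ Subgroup.mem_map_of_mem _ hr)
  rw [← map_mul, h1, map_one]

/-- the statement of the hub -/
theorem b4 : Cfsg.Agent.H613.KS.Props.PB4.{u} := by
  intro G _ _ M hM B hB D hD h8 N _ ξ hξ h0 hcov hDN
  exact B4 hM hB hD h8 N ξ hξ h0 hcov hDN

end Cfsg.Agent.H658.KS
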